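import Cfsg.Agent.Lib.Fusion5248.GlueWreathed
import Cfsg.Agent.Lib.Fusion5248.DihedralFlips
import Cfsg.Agent.Lib.Fusion5248.Realisers.SemiDihedralFlips
import Cfsg.Agent.S1208
import Cfsg.Agent.S1210
import Cfsg.Agent.S1211
import Cfsg.Agent.S1212

/-!
In a group without proper normal subgroups every candidate subgroup is flipped.
-/

set_option autoImplicit false
set_option linter.style.haveILetI false

namespace CfsgLib.Fusion5215

open Subgroup CfsgLib.Fusion5248 CfsgLib.TwoFusion CfsgLib.TwoFusion.DihedralFusion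

variable {T G : Type*} [Group T] [Group G] [Finite G] {i : T →* G}

theorem card_sylow_emb (hi : IsSylowEmb i) :
    ∃ S : Sylow 2 G, (S : Subgroup G) = i.range ∧ Nat.card S = Nat.card T := by
  obtain ⟨S, hS⟩ := hi.2
  exact ⟨S, hS, Nat.card_congr ((MonoidHom.ofInjective hi.1).trans (MulEquiv.subgroupCongr hS.symm)).symm.toEquiv⟩

theorem eight_le_card (hi : IsSylowEmb i) (h8 : 8 ≤ Nat.card T) : 8 ≤ Nat.card G :=
  h8.trans (Nat.card_le_card_of_injective i hi.1)

variable (hG : ∀ K : Subgroup G, K.Normal → K.index = 1 ∨ K.index = Nat.card G)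
include hG

theorem no_index_two (hi : IsSylowEmb i) (h8 : 8 ≤ Nat.card T) (H : Subgroup G) : H.index ≠ 2 := by
  intro h
  have := eight_le_card hi h8
  rcases hG H (Subgroup.normal_of_index_eq_two h) with h1 | h1 <;> omega

theorem not_complement (hi : IsSylowEmb i) (h8 : 8 ≤ Nat.card T) :
    ¬ Cfsg.HasNormalPComplement 2 G := by
  haveI : Fact (Nat.Prime 2) := ⟨Nat.prime_two⟩
  rintro ⟨P, N, hN, hc⟩
  obtain ⟨S, -, hS⟩ := card_sylow_emb hi
  have hP : Nat.card (P : Subgroup G) = Nat.card T := by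
    rw [← hS]
    exact Nat.card_congr (P.equiv S).toEquiv
  have hidx : N.index = Nat.card (P : Subgroup G) := hc.symm.index_eq_card
  rcases hG N hN with h1 | h1
  · omega
  have hGP : Nat.card G = Nat.card (P : Subgroup G) := by omega
  obtain ⟨k, hk⟩ := P.2.exists_card_eq
  obtain ⟨j, rfl⟩ : ∃ j, k = j + 1 := ⟨k - 1, by
    rcases k with _ | k
    · rw [pow_zero] at hk; omega
    · omega⟩
  obtain ⟨H, hH⟩ := Sylow.exists_subgroup_card_pow_prime 2 (G := G) (n := j)
    (hGP ▸ hk ▸ ⟨2, pow_succ 2 j⟩)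
  refine no_index_two hG hi h8 H (Nat.eq_of_mul_eq_mul_left (pow_pos two_pos j) ?_)
  rw [← hH, H.card_mul_index, hGP, hk, pow_succ, hH]

/-- Dihedral Sylow subgroups. -/
theorem dihedral_pattern (hi : IsSylowEmb i) {m : ℕ} (hm : 4 ≤ m) (e : T ≃* DihedralGroup m)
    {E : Subgroup T} (hE : IsKleinFour E) : Flips i E := by
  have h8 : 8 ≤ Nat.card T := by
    rw [Nat.card_congr e.toEquiv, DihedralGroup.nat_card]; omega
  obtain ⟨S, D, hS, hk, -⟩ := dihedral_setup hi hm e
  obtain ⟨j, hj⟩ := D.klein_cases (isKleinFour_map hi.1 hE) (by rw [hS]; exact map_le_range i E)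
  rw [flips_iff_centralizer, hj]
  exact four_flips D hk j (six_of_isConj D j hk (isConj_z_of_no_index_two D (no_index_two hG hi h8) j))

/-- Semidihedral Sylow subgroups. -/
theorem semidihedral_pattern [Finite T] (hi : IsSylowEmb i) (hT : Cfsg.IsQuasiDihedral T) :
    (∀ E : Subgroup T, IsKleinFour E → Flips i E) ∧
      ∀ E : Subgroup T, Nonempty (E ≃* QuaternionGroup 2) → Flips i E := by
  have h8 : 8 ≤ Nat.card T := by
    obtain ⟨n, hn, hc, -⟩ := hT
    rw [hc]
    calc 8 = 2 ^ 3 := by norm_num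
      _ ≤ 2 ^ (n + 1) := Nat.pow_le_pow_right two_pos (by omega)
  obtain ⟨E₀, F₀, hE₀, hF₀⟩ := SDFlips.exists_four_quat hT
  have key : ∀ {E F : Subgroup T}, IsKleinFour E → Nonempty (F ≃* QuaternionGroup 2) →
      Flips i E ∧ Flips i F := by
    intro E F hE hF
    rcases SDFlips.cases i hi hT hE hF with h | ⟨-, -, ⟨K, hK⟩, -⟩ | ⟨-, -, K, hK, -⟩ | ⟨-, -, h⟩
    · exact ⟨h.1, h.2.1⟩
    · exact absurd hK (no_index_two hG hi h8 K)
    · exact absurd hK (no_index_two hG hi h8 K)
    · exact absurd h (not_complement hG hi h8)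
  exact ⟨fun E hE => (key hE hF₀).1, fun F hF => (key hE₀ hF).2⟩

/-- Wreathed Sylow subgroups. -/
theorem wreathed_pattern [Finite T] (hi : IsSylowEmb i) (hT : Cfsg.IsWreathed T) {U V : Subgroup T}
    (hU : AbType U) (hV : QZType V) : Flips i U ∧ Flips i V := by
  obtain ⟨S, hS, hSc⟩ := card_sylow_emb hi
  obtain ⟨n, hn, hc, x, y, z, hx, hxy, hd, hz, hzx⟩ := hT
  have h8 : 8 ≤ Nat.card T := by
    rw [hc]
    calc 8 = 2 ^ 3 := by norm_num
      _ ≤ 2 ^ (2 * n + 1) := Nat.pow_le_pow_right two_pos (by omega)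
  let e : T ≃* (S : Subgroup G) :=
    (MonoidHom.ofInjective hi.1).trans (MulEquiv.subgroupCongr hS.symm)
  have hSw : Cfsg.IsWreathed (S : Subgroup G) := by
    refine ⟨n, hn, hSc.trans hc, e x, e y, e z, by rw [e.orderOf_eq, hx], by rw [← map_mul, hxy, map_mul],
      ?_, by rw [e.orderOf_eq, hz], by rw [← map_inv, ← map_mul, ← map_mul, hzx]⟩
    show zpowers (e.toMonoidHom x) ⊓ zpowers (e.toMonoidHom y) = ⊥
    rw [← MonoidHom.map_zpowers, ← MonoidHom.map_zpowers, ← Subgroup.map_inf _ _ _ e.injective, hd,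
      Subgroup.map_bot]
  obtain ⟨Q, ⟨eQ⟩, rfl⟩ := hV
  have hUc : Nat.card (U.map i) = 2 ^ (2 * n) := by
    rw [Subgroup.card_map_of_injective hi.1]
    have h := U.card_mul_index
    rw [hU.2, hc, pow_succ] at h
    omega
  haveI := hU.1
  have hUab : IsMulCommutative (U.map i) := inferInstance
  let eQ' : (Q.map i : Subgroup G) ≃* QuaternionGroup 2 := (Q.equivMapOfInjective i hi.1).symm.trans eQ
  have hcen : ((Subgroup.center (S : Subgroup G)).map (S : Subgroup G).subtype) =
      (Subgroup.center T).map i := by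
    ext g
    constructor
    · rintro ⟨s, hs, rfl⟩
      obtain ⟨t, rfl⟩ := e.surjective s
      refine ⟨t, Subgroup.mem_center_iff.mpr fun u => e.injective ?_, rfl⟩
      rw [map_mul, map_mul]
      exact Subgroup.mem_center_iff.mp hs (e u)
    · rintro ⟨t, ht, rfl⟩
      refine ⟨e t, Subgroup.mem_center_iff.mpr fun s => ?_, rfl⟩
      obtain ⟨u, rfl⟩ := e.surjective s
      rw [← map_mul, ← map_mul, Subgroup.mem_center_iff.mp ht u]
  have hUS : U.map i ≤ S := hS ▸ map_le_range i U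
  have hQS : Q.map i ≤ S := hS ▸ map_le_range i Q
  have hn' : Nat.card S = 2 ^ (2 * n + 1) := hSc.trans hc
  have hVmap : Q.map i ⊔ (Subgroup.center (S : Subgroup G)).map (S : Subgroup G).subtype =
      (Q ⊔ Subgroup.center T).map i := by rw [hcen, Subgroup.map_sup]
  obtain ⟨ha, hb⟩ := Cfsg.Agent.S1208.result S hSw n hn' _ hUS hUab hUc _ hQS eQ'
  have flipsU : (centralizer ((U.map i : Subgroup G) : Set G)).relIndex
      (normalizer ((U.map i : Subgroup G) : Set G)) = 6 → Flips i U := fun h6 =>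
    (flips_iff_centralizer i U).mpr (exists_odd_not_mem (by rw [h6]; norm_num))
  have flipsV : ((Q.map i ⊔ (Subgroup.center (S : Subgroup G)).map (S : Subgroup G).subtype) ⊔
      centralizer ((Q.map i ⊔ (Subgroup.center (S : Subgroup G)).map (S : Subgroup G).subtype : Subgroup G) :
        Set G)).relIndex (normalizer ((Q.map i ⊔ (Subgroup.center (S : Subgroup G)).map
          (S : Subgroup G).subtype : Subgroup G) : Set G)) = 6 → Flips i (Q ⊔ Subgroup.center T) := by
    intro h6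
    rw [hVmap] at h6
    obtain ⟨g, hg, ho, hn⟩ := exists_odd_not_mem
      (H := (Q ⊔ Subgroup.center T).map i ⊔ centralizer (((Q ⊔ Subgroup.center T).map i : Subgroup G) : Set G))
      (N := normalizer (((Q ⊔ Subgroup.center T).map i : Subgroup G) : Set G)) (by rw [h6]; norm_num)
    exact (flips_iff_centralizer i _).mpr ⟨g, hg, ho, fun hc => hn (mem_sup_right hc)⟩
  have hbig : 2 ^ n < Nat.card G :=
    (Nat.pow_lt_pow_right one_lt_two (by omega : n < 2 * n + 1)).trans_le
      (hc ▸ Nat.card_le_card_of_injective i hi.1)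
  rcases ha with ha | ha <;> rcases hb with hb | hb
  · exact absurd (Cfsg.Agent.S1212.result S hSw n hn' _ hUS hUab hUc _ hQS eQ' ha hb).1
      (not_complement hG hi h8)
  · obtain ⟨K, hK, hKi, -⟩ := (Cfsg.Agent.S1210.result S hSw n hn' _ hUS hUab hUc _ hQS eQ' ha hb).1
    exfalso
    have h2 : 2 ≤ 2 ^ n := by
      calc 2 = 2 ^ 1 := (pow_one 2).symm
        _ ≤ 2 ^ n := Nat.pow_le_pow_right two_pos (by omega)
    rcases hG K hK with h1 | h1 <;> omega
  · obtain ⟨K, -, hKi, -⟩ := (Cfsg.Agent.S1211.result S hSw n hn' _ hUS hUab hUc _ hQS eQ' ha hb).1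
    exact absurd hKi (no_index_two hG hi h8 K)
  · exact ⟨flipsU ha, flipsV hb⟩

end CfsgLib.Fusion5215
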