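import Cfsg.Agent.Lib.Fusion5215.Simple
import Cfsg.Agent.Lib.Fusion5215.Pattern
import Cfsg.Agent.Lib.Fusion5216.Main
import Cfsg.Agent.Lib.Fusion5248.Realisers.ProjectiveLinear
import Cfsg.Agent.S5248

/-!
Simple systems of rank two are those of `PSL₂(q)` and `PSL₃(q)`.
-/

set_option autoImplicit false
set_option linter.style.haveILetI false

universe u

open Cfsg Cfsg.FusionSystem

namespace CfsgLib.Fusion5215

open CfsgLib.Fusion5248

variable {Ω : Type u} [Group Ω] {S : Subgroup Ω} [Finite S] {F : Cfsg.FusionSystem S}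

theorem oddAut_of_flips {G : Type*} [Group G] [Finite G] {ι : S →* G} (h : F.IsRealizedBy ι)
    {E : Subgroup ↥S} (hf : Flips ι E) : OddAut (autF F E) := by
  rw [autF_of_realized h]
  exact (flips_iff ι h.1 E).1 hf

/-- The classification of simple systems of rank two. -/
theorem simple_rank_two (hS : IsPGroup 2 S) (hr : Cfsg.PRankAtLeast 2 2 ↥S ∧ ¬ Cfsg.PRankAtLeast 2 3 ↥S)
    (hs : F.IsSimple 2) :
    ((∃ m : ℕ, Nonempty (↥S ≃* DihedralGroup m)) ∨ Cfsg.IsQuasiDihedral ↥S ∨ Cfsg.IsWreathed ↥S) ∧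
      IsProjLinear F := by
  classical
  haveI : Fact (Nat.Prime 2) := ⟨Nat.prime_two⟩
  have hF := hs.1
  have h4 : 2 < Nat.card S := by
    obtain ⟨A, -, -, hA⟩ := hr.1
    have := A.card_le_card_group
    omega
  have hno := not_isNormal_top hS hs h4
  letI : Fintype (GaloisField 2 4) := Fintype.ofFinite _
  have hK : Fintype.card (GaloisField 2 4) = 16 := by
    rw [← Nat.card_eq_fintype_card, GaloisField.card 2 4 (by norm_num)]
    norm_num
  have hreal : ∀ hshape : (∃ m : ℕ, 4 ≤ m ∧ Nonempty (↥S ≃* DihedralGroup m)) ∨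
      (∃ m : ℕ, 2 ≤ m ∧ Nonempty (↥S ≃* QuaternionGroup m)) ∨ Cfsg.IsQuasiDihedral ↥S ∨
        Cfsg.IsWreathed ↥S,
      ∃ (G : Type u) (_ : Group G) (_ : Finite G) (ι : S →* G), F.IsRealizedBy ι ∧ IsSylowEmb ι ∧
        ∀ K : Subgroup G, K.Normal → K.index = 1 ∨ K.index = Nat.card G := fun hshape => by
    obtain ⟨G, _, hfin, ι, hι, hi, hK⟩ :=
      exists_simple_group hS hs (Cfsg.Agent.S5248.result hS F hF hshape).2
    exact ⟨G, inferInstance, hfin, ι, hι, hi, hK⟩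
  rcases Cfsg.Agent.S5213.result hS F hF hr (center_eq_bot hS hs h4) hK with
    ⟨m, ⟨e⟩⟩ | h | h | ⟨n, k, ⟨e⟩⟩ | ⟨T, ⟨e⟩⟩
  · by_cases hm : 4 ≤ m
    · refine ⟨Or.inl ⟨m, ⟨e⟩⟩, dihedral_realizedBy hS hF hm (dihedral_params hS hm e) e fun E hE => ?_⟩
      obtain ⟨G, _, _, ι, hι, hi, hG⟩ := hreal (Or.inl ⟨m, hm, ⟨e⟩⟩)
      exact oddAut_of_flips hι (dihedral_pattern hG hi hm e hE)
    · exact absurd (Fusion5216.isNormal_top_of_commute hS hF
        (Fusion5216.commute_of_small_dihedral hS (not_le.1 hm) e)) hno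
  · obtain ⟨G, _, _, ι, hι, hi, hG⟩ := hreal (Or.inr (Or.inr (Or.inl h)))
    obtain ⟨hV, hQ⟩ := semidihedral_pattern hG hi h
    exact ⟨Or.inr (Or.inl h), semidihedral_realizedBy hS hF h
      (fun E hE => oddAut_of_flips hι (hV E hE)) fun E hE => oddAut_of_flips hι (hQ E hE)⟩
  · obtain ⟨G, _, _, ι, hι, hi, hG⟩ := hreal (Or.inr (Or.inr (Or.inr h)))
    obtain ⟨E1, E2, hc, hidx, h2, -⟩ := Wreathed.cover h
    exact ⟨Or.inr (Or.inr h), wreathed_realizedBy hS hF h
      (fun E hE => oddAut_of_flips hι (wreathed_pattern hG hi h hE h2).1)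
      fun E hE => oddAut_of_flips hι (wreathed_pattern hG hi h ⟨hc, hidx⟩ hE).2⟩
  · exact absurd (Fusion5216.isNormal_top_of_commute hS hF fun a b =>
      e.injective (by rw [map_mul, map_mul, mul_comm])) hno
  · exact absurd (Fusion5216.isNormal_top_of_unitary hK T e hS hF) hno

end CfsgLib.Fusion5215
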