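import Cfsg.Agent.Lib.Fusion5248.Assembly
import Cfsg.Agent.Lib.Fusion.FittingInner
import Cfsg.Agent.S5337
import Cfsg.Agent.S5343

/-!
Simple fusion systems: no normal subgroups, trivial centre, and realisation by a group without
proper normal subgroups.
-/

set_option autoImplicit false
set_option linter.style.haveILetI false

universe u

open Cfsg Cfsg.FusionSystem

namespace CfsgLib.Fusion5215

open CfsgLib.Fusion CfsgLib.Fusion5248

variable {Ω : Type u} [Group Ω] {S : Subgroup Ω} [Finite S] {F : Cfsg.FusionSystem S} {p : ℕ}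
  [Fact p.Prime]

theorem eq_bot_or_inner (hS : IsPGroup p S) (hs : F.IsSimple p) {Q : Subgroup Ω} (hQ : F.IsNormal Q) :
    Q = ⊥ ∨ (Q = S ∧ ∀ P : Subgroup Ω, (Cfsg.innerFusionSystem Q).Hom P = F.Hom P) :=
  hs.2.2 Q _ (FittingInner.inner_isNormalIn hS hs.1 hQ)

theorem not_isNormal_top (hS : IsPGroup p S) (hs : F.IsSimple p) (hcard : p < Nat.card S) :
    ¬ F.IsNormal S := by
  intro hN
  rcases eq_bot_or_inner hS hs hN with h | ⟨-, hhom⟩
  · exact hs.2.1 h
  have hnt : Nontrivial S := Finite.one_lt_card_iff_nontrivial.mp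
    (lt_of_le_of_lt (Fact.out : p.Prime).one_le hcard)
  set Z : Subgroup Ω := (Subgroup.center S).map S.subtype with hZ
  have hZS : Z ≤ S := Subgroup.map_subtype_le _
  have hZc : F.IsCentral Z := by
    refine ⟨hZS, fun P φ hφ => ?_⟩
    rw [← hhom P] at hφ
    obtain ⟨hP, g, hg, hv⟩ := hφ
    refine ⟨conjHom (P ⊔ Z) g, F.conj_mem (sup_le hP hZS) hg, fun x => ?_, ?_⟩
    · rw [conjHom_apply, hv]; rfl
    · rintro ⟨_, z, hz, rfl⟩
      rw [conjHom_apply]
      show g * (z : Ω) * g⁻¹ = z
      have := congrArg (fun s : S => (s : Ω)) (Subgroup.mem_center_iff.mp hz ⟨g, hg⟩)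
      simp only [Subgroup.coe_mul] at this
      rw [this, mul_inv_cancel_right]
  rcases eq_bot_or_inner hS hs (CfsgLib.FusionConstrained.isNormal_of_isCentral hZc) with h | ⟨h, -⟩
  · haveI := hS.center_nontrivial
    have hb : Subgroup.center S = ⊥ := (Subgroup.map_eq_bot_iff_of_injective _ S.subtype_injective).mp h
    exact (Subgroup.nontrivial_iff_ne_bot (Subgroup.center S)).mp inferInstance hb
  have hab : ∀ x ∈ S, ∀ y ∈ S, x * y = y * x := by
    intro x hx y hy
    obtain ⟨z, hz, rfl⟩ : x ∈ Z := h.symm ▸ hx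
    exact (congrArg (fun s : S => (s : Ω)) (Subgroup.mem_center_iff.mp hz ⟨y, hy⟩)).symm
  exact absurd (((Cfsg.Agent.S5337.result p hS F hs.1 hab).mp hs).1) hcard.ne'

theorem center_eq_bot (hS : IsPGroup p S) (hs : F.IsSimple p) (hcard : p < Nat.card S) :
    F.center = ⊥ := by
  have hn : F.IsNormal F.center :=
    CfsgLib.FusionConstrained.isNormal_of_isCentral (CfsgLib.FusionQuot.isCentral_center F)
  rcases eq_bot_or_inner hS hs hn with h | ⟨h, -⟩
  · exact h
  · exact absurd (show F.IsNormal S from Eq.subst (motive := fun Q => F.IsNormal Q) h hn)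
      (not_isNormal_top hS hs hcard)

omit [Finite S] [Fact p.Prime] in
/-- The automizers of a realised system. -/
theorem autF_of_realized {G : Type*} [Group G] {ι : S →* G} (h : F.IsRealizedBy ι) (E : Subgroup ↥S) :
    autF F E = autG ι E := by
  have hhom : ∀ P : Subgroup Ω, F.Hom P = (sys ι h.1).Hom P := fun P => Set.ext fun φ => by
    constructor
    · intro hφ
      exact ⟨(F.le_of_mem hφ).1, (F.le_of_mem hφ).2, (h.2 P (F.le_of_mem hφ).1 φ (F.le_of_mem hφ).2).1 hφ⟩
    · rintro ⟨hP, hφ, hg⟩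
      exact (h.2 P hP φ hφ).2 hg
  rw [← autF_sys ι h.1, autF, autF]
  congr 1
  simp only [FusionSystem.autGroup, hhom]

/-- A simple system with a realisation is realised by a group without proper normal subgroups. -/
theorem exists_simple_group (hS : IsPGroup p S) (hs : F.IsSimple p) (hr : F.IsRealizable p) :
    ∃ (G : Type u) (_ : Group G) (_ : Finite G) (ι : S →* G), F.IsRealizedBy ι ∧ (Function.Injective ι ∧ ∃ T : Sylow p G, (T : Subgroup G) = ι.range) ∧
      ∀ K : Subgroup G, K.Normal → K.index = 1 ∨ K.index = Nat.card G := by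
  obtain ⟨G, _, _, hG, ι, hι, T, hT⟩ := Cfsg.Agent.S5343.result p hS F hs hr
  refine ⟨G, inferInstance, inferInstance, ι, hι, ⟨hι.1, T, hT⟩, fun K hK => ?_⟩
  rcases hG.eq_bot_or_eq_top_of_normal K hK with rfl | rfl
  · exact Or.inr Subgroup.index_bot
  · exact Or.inl Subgroup.index_top

end CfsgLib.Fusion5215
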